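import Groth.Agent.ConormalLciLib.Main
import Groth.Agent.GenBCLib.SecLocFree

/-!
# The conormal sheaf of a formally unramified lci morphism is finite locally free
-/

set_option autoImplicit false
set_option backward.isDefEq.respectTransparency false
set_option backward.defeqAttrib.useBackward true
set_option linter.style.haveILetI false
set_option maxHeartbeats 1000000

universe u

open CategoryTheory CategoryTheory.Limits AlgebraicGeometry TopologicalSpace Opposite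

namespace Groth.Agent.ConormalLciLib

open Groth.Agent Groth.Agent.ConormalLib

theorem finite_projective_of_factor {X Y X' : Scheme.{u}} {f : X ⟶ Y} {i : X ⟶ X'} {h' : X' ⟶ Y}
    (hu : OmegaSh.IsUnivThickening f i h') {Y₀ : Y.Opens} (hY₀ : IsAffineOpen Y₀)
    {U : X'.Opens} (hU : IsAffineOpen U) (hW : IsAffineOpen (i ⁻¹ᵁ U)) (hs : Function.Surjective (i.app U))
    (hhU : U ≤ h' ⁻¹ᵁ Y₀) (e : i ⁻¹ᵁ U ≤ f ⁻¹ᵁ Y₀) (hfac : HasFactor f Y₀ (i ⁻¹ᵁ U) e) :
    Module.Finite Γ(X, i ⁻¹ᵁ U) Γ(Omega.conormal i, i ⁻¹ᵁ U) ∧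
      Module.Projective Γ(X, i ⁻¹ᵁ U) Γ(Omega.conormal i, i ⁻¹ᵁ U) := by
  classical
  haveI : IsClosedImmersion i := hu.1.1.1
  obtain ⟨B, _, φ, q, n, v, hφ, hq, hqφ, hv, hker⟩ := hfac
  letI : Algebra Γ(Y, Y₀) B := φ.toAlgebra
  letI : Algebra Γ(Y, Y₀) Γ(X', U) := (h'.appLE Y₀ U hhU).hom.toAlgebra
  letI : Algebra Γ(Y, Y₀) Γ(X, i ⁻¹ᵁ U) := ((i.app U).hom.comp (h'.appLE Y₀ U hhU).hom).toAlgebra
  letI : Algebra Γ(X', U) Γ(X, i ⁻¹ᵁ U) := (i.app U).hom.toAlgebra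
  haveI : IsScalarTower Γ(Y, Y₀) Γ(X', U) Γ(X, i ⁻¹ᵁ U) := .of_algebraMap_eq fun _ => rfl
  haveI : Algebra.Smooth Γ(Y, Y₀) B := RingHom.smooth_algebraMap.1 hφ
  have hqc : ∀ r, q (φ r) = i.app U (h'.appLE Y₀ U hhU r) := fun r => by
    rw [← RingHom.comp_apply q φ, hqφ, ← CommRingCat.comp_apply, Scheme.Hom.app_eq_appLE, Scheme.Hom.appLE_comp_appLE]
    exact congr($(OmegaSh.appLE_congr_hom hu.2.1.symm _ _) r)
  let qA : B →ₐ[Γ(Y, Y₀)] Γ(X, i ⁻¹ᵁ U) := { q with commutes' := hqc }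
  let iA : Γ(X', U) →ₐ[Γ(Y, Y₀)] Γ(X, i ⁻¹ᵁ U) := IsScalarTower.toAlgHom _ _ _
  have hI : RingHom.ker (i.app U).hom * RingHom.ker (i.app U).hom = ⊥ :=
    eq_bot_iff.mpr (Submodule.mul_le.mpr fun p hp r hr => (Submodule.mem_bot _).mpr (mul_eq_zero_of_thickening hu.1 hp hr))
  have hnil : IsNilpotent (RingHom.ker (iA : Γ(X', U) →+* Γ(X, i ⁻¹ᵁ U))) := ⟨2, by rw [pow_two]; exact hI⟩
  let η : B →ₐ[Γ(Y, Y₀)] Γ(X', U) := Algebra.FormallySmooth.liftOfSurjective qA iA hs hnil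
  have hη : ∀ x, i.app U (η x) = q x := Algebra.FormallySmooth.liftOfSurjective_apply qA iA hs hnil
  let K : Ideal B := RingHom.ker q
  let Kb : Ideal (B ⧸ K ^ 2) := K.map (Ideal.Quotient.mk (K ^ 2))
  have hKb : Kb ^ 2 = ⊥ := by rw [← Ideal.map_pow, Ideal.map_quotient_self]
  let β : Γ(X, i ⁻¹ᵁ U) →+* (B ⧸ K ^ 2) ⧸ Kb :=
    q.liftOfSurjective hq ⟨(Ideal.Quotient.mk Kb).comp (Ideal.Quotient.mk (K ^ 2)), fun x hx => by
      rw [RingHom.mem_ker, RingHom.comp_apply, Ideal.Quotient.eq_zero_iff_mem]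
      exact Ideal.mem_map_of_mem _ hx⟩
  have hβ : ∀ x, β (q x) = Ideal.Quotient.mk Kb (Ideal.Quotient.mk (K ^ 2) x) := fun x =>
    RingHom.liftOfRightInverse_comp_apply _ _ _ _ _
  have hβinj : ∀ x, Ideal.Quotient.mk (K ^ 2) x ∈ Kb → q x = 0 := fun x hx => by
    have h1 : x ∈ Kb.comap (Ideal.Quotient.mk (K ^ 2)) := hx
    rw [Ideal.comap_map_of_surjective' _ Ideal.Quotient.mk_surjective, Ideal.mk_ker] at h1
    exact RingHom.mem_ker.1 (sup_le (le_refl K) (Ideal.pow_le_self two_ne_zero) h1)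
  obtain ⟨g, ⟨hg₁, hg₂⟩, -⟩ := existsUnique_ringHom hu hY₀ hU hhU hW Kb hKb β
    ((Ideal.Quotient.mk (K ^ 2)).comp φ) (fun r => by rw [← hqc, hβ]; rfl)
  let ηb : B ⧸ K ^ 2 →+* Γ(X', U) := Ideal.Quotient.lift (K ^ 2) η.toRingHom fun x hx => by
    rw [pow_two] at hx
    refine Submodule.mul_induction_on hx (fun p hp r hr => ?_) (fun p r hp hr => by rw [map_add, hp, hr, add_zero])
    show η (p * r) = 0
    rw [map_mul]
    exact mul_eq_zero_of_thickening hu.1 (show i.app U (η p) = 0 by rw [hη]; exact hp)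
      (show i.app U (η r) = 0 by rw [hη]; exact hr)
  have hηg : ∀ a, ηb (g a) = a := by
    obtain ⟨φ₀, -, huniq⟩ := existsUnique_ringHom hu hY₀ hU hhU hW (RingHom.ker (i.app U).hom) (by rw [pow_two]; exact hI)
      ((RingHom.quotientKerEquivOfSurjective (f := (i.app U).hom) hs).symm.toRingHom) (h'.appLE Y₀ U hhU).hom (fun r => by
        exact RingEquiv.symm_apply_eq _ |>.2 rfl)
    have e1 := huniq (ηb.comp g) ⟨fun r => by
        rw [RingHom.comp_apply, hg₁]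
        exact η.commutes r, fun a => by
        rw [RingHom.comp_apply]
        obtain ⟨x, hx⟩ := Ideal.Quotient.mk_surjective (g a)
        obtain ⟨y, hy⟩ := hq (i.app U a)
        have h1 : q (x - y) = 0 := hβinj _ (by
          rw [← Ideal.Quotient.eq_zero_iff_mem, map_sub, map_sub, hx, hg₂, ← hy, hβ, sub_self])
        rw [map_sub, sub_eq_zero] at h1
        refine (RingEquiv.eq_symm_apply _).2 ?_
        show i.app U (ηb (g a)) = i.app U a
        rw [← hx]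
        show i.app U (η x) = _
        rw [hη, h1, hy]⟩
    have e2 := huniq (RingHom.id _) ⟨fun r => rfl, fun a => (RingEquiv.eq_symm_apply _).2 rfl⟩
    exact fun a => congr($(e1.trans e2.symm) a)
  -- sections
  let cls : Γ(ClSub.idealMod i.ker, U) → Γ(Omega.conormal i, i ⁻¹ᵁ U) := fun s =>
    PullbackMod.pullMap i (ClSub.idealMod i.ker) (W := U) (W' := i ⁻¹ᵁ U) le_rfl s
  obtain ⟨hcls₁, hcls₂⟩ := cls_surjective_and_eq_zero_iff i hU hW hs
  have hclsinj : ∀ s t, cls s = cls t → s = t := fun s t hst => by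
    have h := (hcls₂ (s - t)).mp (by rw [map_sub, sub_eq_zero]; exact hst)
    rw [hI, Ideal.mem_bot, map_sub, sub_eq_zero] at h
    exact OmegaAffLib.idealSect_injective i.ker U h
  have hclsadd : ∀ s t, cls (s + t) = cls s + cls t := fun s t => map_add _ s t
  have hclssmul : ∀ (a : Γ(X', U)) s, cls (a • s) = i.app U a • cls s := fun a s => by
    refine (PullbackMod.pullMap_smul i (ClSub.idealMod i.ker) le_rfl a s).trans ?_
    rw [← Scheme.Hom.app_eq_appLE]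
  have hcoef : ∀ s, ∃ b : Fin n → B, Ideal.Quotient.mk (K ^ 2) (∑ k, b k * v k) = g (OmegaSh.idealSect i.ker U s) := fun s => by
    have h1 : g (OmegaSh.idealSect i.ker U s) ∈ Kb := by
      rw [← Ideal.Quotient.eq_zero_iff_mem, hg₂, app_idealSect, map_zero]
    obtain ⟨x, hx, hxe⟩ := (Ideal.mem_map_iff_of_surjective _ Ideal.Quotient.mk_surjective).mp h1
    obtain ⟨b, hb⟩ := Ideal.mem_span_range_iff_exists_fun.mp (show x ∈ Ideal.span (Set.range v) from hker ▸ hx)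
    exact ⟨b, by rw [hb, hxe]⟩
  have huniq : ∀ b b' : Fin n → B, Ideal.Quotient.mk (K ^ 2) (∑ k, b k * v k) = Ideal.Quotient.mk (K ^ 2) (∑ k, b' k * v k) →
      ∀ k, q (b k) = q (b' k) := fun b b' he k => by
    rw [Ideal.Quotient.eq, ← Finset.sum_sub_distrib, pow_two] at he
    simp only [← sub_mul] at he
    rw [show K = Ideal.span (Set.range v) from hker] at he
    rw [← sub_eq_zero, ← map_sub, ← RingHom.mem_ker, hker]
    exact coeff_mem_of_h1 hv (fun k => b k - b' k) he k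
  choose sec hsec using hcls₁
  choose co hco using hcoef
  have hσ : ∀ (s) (b : Fin n → B), Ideal.Quotient.mk (K ^ 2) (∑ k, b k * v k) = g (OmegaSh.idealSect i.ker U s) →
      ∀ k, q (co (sec (cls s)) k) = q (b k) := fun s b hb k => by
    refine huniq _ _ ?_ k
    rw [hco, hb, hclsinj _ _ (hsec (cls s))]
  let σ : Γ(Omega.conormal i, i ⁻¹ᵁ U) →ₗ[Γ(X, i ⁻¹ᵁ U)] (Fin n → Γ(X, i ⁻¹ᵁ U)) :=
    { toFun := fun w k => q (co (sec w) k)
      map_add' := fun w w' => funext fun k => by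
        obtain ⟨s, rfl⟩ : ∃ s, cls s = w := ⟨_, hsec w⟩
        obtain ⟨s', rfl⟩ : ∃ s', cls s' = w' := ⟨_, hsec w'⟩
        rw [← hclsadd, Pi.add_apply, hσ (s + s') (fun k => co (sec (cls s)) k + co (sec (cls s')) k) ?_ k, map_add]
        simp only [add_mul, Finset.sum_add_distrib, map_add]
        rw [hco, hco, hclsinj _ _ (hsec (cls s)), hclsinj _ _ (hsec (cls s'))]
      map_smul' := fun c w => funext fun k => by
        obtain ⟨s, rfl⟩ : ∃ s, cls s = w := ⟨_, hsec w⟩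
        obtain ⟨x, rfl⟩ := hq c
        rw [RingHom.id_apply, Pi.smul_apply, smul_eq_mul, show q x • cls s = cls (η x • s) by rw [hclssmul, hη],
          hσ (η x • s) (fun k => x * co (sec (cls s)) k) ?_ k, map_mul]
        rw [OmegaAffLib.idealSect_smul, map_mul]
        simp only [mul_assoc, ← Finset.mul_sum, map_mul, hco, hclsinj _ _ (hsec (cls s))]
        refine sub_eq_zero.1 ((Submodule.mem_bot _).1 (hKb.le ?_))
        rw [← sub_mul, pow_two Kb]
        refine Ideal.mul_mem_mul ?_ ?_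
        · rw [← Ideal.Quotient.eq_zero_iff_mem, map_sub, hg₂, hη, hβ, sub_self]
        · rw [← Ideal.Quotient.eq_zero_iff_mem, hg₂, app_idealSect, map_zero] }
  choose sv hsv using fun k => exists_idealSect_eq i U (η (v k)) (by
    rw [hη, ← RingHom.mem_ker, hker]
    exact Ideal.subset_span ⟨k, rfl⟩)
  let L : (Fin n → Γ(X, i ⁻¹ᵁ U)) →ₗ[Γ(X, i ⁻¹ᵁ U)] Γ(Omega.conormal i, i ⁻¹ᵁ U) :=
    Fintype.linearCombination Γ(X, i ⁻¹ᵁ U) fun k => cls (sv k)
  have hsplit : L.comp σ = LinearMap.id := LinearMap.ext fun w => by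
    obtain ⟨s, rfl⟩ : ∃ s, cls s = w := ⟨_, hsec w⟩
    have hs' : s = ∑ k, η (co (sec (cls s)) k) • sv k := by
      refine OmegaAffLib.idealSect_injective i.ker U ?_
      rw [map_sum]
      simp only [OmegaAffLib.idealSect_smul, hsv, ← map_mul, ← map_sum]
      refine Eq.trans ?_ (show ηb (Ideal.Quotient.mk (K ^ 2) _) = _ from rfl)
      rw [hco, hηg, hclsinj _ _ (hsec (cls s))]
    rw [LinearMap.comp_apply, Fintype.linearCombination_apply, LinearMap.id_apply]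
    conv_rhs => rw [hs']
    refine Eq.trans ?_ (map_sum (PullbackMod.pullMap i (ClSub.idealMod i.ker) (W := U) (W' := i ⁻¹ᵁ U) le_rfl) _ _).symm
    refine Finset.sum_congr rfl fun k _ => ?_
    show q _ • cls (sv k) = cls (_ • sv k)
    rw [hclssmul, hη]
  exact ⟨Module.Finite.of_surjective L fun w => ⟨σ w, LinearMap.congr_fun hsplit w⟩,
    Module.Projective.of_split σ L hsplit⟩

theorem isFinLocFree_conormal {X Y X' : Scheme.{u}} {f : X ⟶ Y} {i : X ⟶ X'} {h' : X' ⟶ Y}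
    (hu : OmegaSh.IsUnivThickening f i h') (hlci : ∀ x, Synt.IsKoszulAt f x) :
    FlatMod.IsFinLocFree (Omega.conormal i) := by
  haveI : IsClosedImmersion i := hu.1.1.1
  haveI := OmegaAffLib.isQCoh_idealMod i.ker
  haveI : Coh.IsQCoh (Omega.conormal i) := PullbackMod.isQCoh_pullback i (ClSub.idealMod i.ker)
  refine GenBCLib.isFinLocFree_of_nhds _ fun z => ?_
  obtain ⟨Y₀, hY₀, hzY, -⟩ := exists_isAffineOpen_mem_and_subset (U := (⊤ : Y.Opens)) (x := f z) trivial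
  obtain ⟨U₁, hU₁, hzU₁, hU₁le, -, hb₁⟩ := exists_chart i z (V := ⊤) trivial (O := h' ⁻¹ᵁ Y₀) (by
    show h' (i z) ∈ Y₀
    rw [← Scheme.Hom.comp_apply, hu.2.1]; exact hzY)
  obtain ⟨hW₁, hs₁⟩ := chart_of_le i hU₁ hb₁
  obtain ⟨W₂, e₂, hW₂, hzW₂, hfac⟩ := exists_factor f (hlci z) hY₀ hzY
  obtain ⟨β₁, β₂, hβ, hzβ⟩ := exists_basicOpen_le_affine_inter hW₁ hW₂ z ⟨hzU₁, hzW₂⟩
  obtain ⟨a, ha⟩ := hs₁ β₁
  have hpre : i ⁻¹ᵁ X'.basicOpen a = X.basicOpen β₁ := by rw [Scheme.preimage_basicOpen, ha]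
  have hUle : X'.basicOpen a ≤ U₁ := X'.basicOpen_le a
  obtain ⟨hW, hs⟩ := chart_of_le i (hU₁.basicOpen a) (hUle.trans hb₁)
  obtain ⟨h1, h2⟩ := finite_projective_of_factor hu hY₀ (hU₁.basicOpen a) hW hs (hUle.trans hU₁le) _
    (HasFactor.basicOpen hW₂ hfac β₂ (hpre.trans hβ))
  exact ⟨i ⁻¹ᵁ X'.basicOpen a, by rw [hpre]; exact hzβ, GenBCLib.isFinLocFree_of_sections _ hW⟩

end Groth.Agent.ConormalLciLib
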