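import Groth.Agent.ConormalLib.Thicken
import Groth.Agent.ConormalLib.UnivRing
import Groth.Agent.ConormalLib.ThickenOps
import Groth.Agent.SmLift.Main
import Groth.Agent.RegKindLib.Basic
import Groth.Prelude.Def_RegImm

/-!
# The transitivity sequence of conormal sheaves is left exact for lci morphisms
-/

set_option autoImplicit false
set_option backward.isDefEq.respectTransparency false
set_option backward.defeqAttrib.useBackward true
set_option linter.style.haveILetI false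
set_option maxHeartbeats 1000000

universe u

open CategoryTheory CategoryTheory.Limits AlgebraicGeometry TopologicalSpace Opposite
open scoped TensorProduct

namespace Groth.Agent.ConormalLciLib

open Groth.Agent Groth.Agent.ConormalLib

/-- An affine presentation of `i` near a Koszul point: a smooth algebra followed by an `H₁`-regular quotient. -/
def HasFactor {Z Y : Scheme.{u}} (i : Z ⟶ Y) (Y₀ : Y.Opens) (W : Z.Opens) (e : W ≤ i ⁻¹ᵁ Y₀) : Prop :=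
  ∃ (B : Type u) (_ : CommRing B) (φ : Γ(Y, Y₀) →+* B) (q : B →+* Γ(Z, W)) (n : ℕ) (f : Fin n → B),
    φ.Smooth ∧ Function.Surjective q ∧ q.comp φ = (i.appLE Y₀ W e).hom ∧ CAlgX.IsH1Regular f ∧
      RingHom.ker q = Ideal.span (Set.range f)

theorem exists_factor {Z Y : Scheme.{u}} (i : Z ⟶ Y) {z : Z} (hk : Synt.IsKoszulAt i z) {Y₀ : Y.Opens}
    (hY₀ : IsAffineOpen Y₀) (hz : i z ∈ Y₀) :
    ∃ (W : Z.Opens) (e : W ≤ i ⁻¹ᵁ Y₀), IsAffineOpen W ∧ z ∈ W ∧ HasFactor i Y₀ W e := by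
  obtain ⟨V, P, k, π, hzV, -, ⟨himm, hreg⟩, hπ, hfac⟩ := hk
  let z₀ : V.toScheme := ⟨z, hzV⟩
  have hπz : π (k z₀) ∈ Y₀ := by
    rw [← Scheme.Hom.comp_apply, hfac]
    exact hz
  obtain ⟨⟨O₀, hO₀⟩, hz₀, hc, rs, hrs, hker⟩ := hreg z₀
  obtain ⟨b, hbO, hzb⟩ := hO₀.exists_basicOpen_le (V := π ⁻¹ᵁ Y₀) ⟨k z₀, hπz⟩ hz₀
  obtain ⟨hc', hk'⟩ := RelDivLib.closed_and_ker_pullback (IsPullback.id_horiz k) hO₀ hc (hO₀.basicOpen b)
    (V := P.basicOpen b) (P.basicOpen_le b)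
  obtain ⟨hWa, hsurj⟩ := RegIdealLib.affine_and_surjective k (hO₀.basicOpen b) hc'
  have e : V.ι ''ᵁ (k ⁻¹ᵁ P.basicOpen b) ≤ i ⁻¹ᵁ Y₀ := by
    rintro _ ⟨v, hv, rfl⟩
    show i (V.ι v) ∈ Y₀
    rw [← Scheme.Hom.comp_apply, ← hfac, Scheme.Hom.comp_apply]
    exact hbO hv
  refine ⟨_, e, hWa.image_of_isOpenImmersion V.ι, ⟨z₀, hzb, rfl⟩, Γ(P, P.basicOpen b), inferInstance,
    (π.appLE Y₀ (P.basicOpen b) hbO).hom, (k.app (P.basicOpen b) ≫ (V.ι.appIso (k ⁻¹ᵁ P.basicOpen b)).inv).hom,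
    rs.length, fun l => (P.presheaf.map (homOfLE (P.basicOpen_le b)).op).hom (rs.get l),
    HasRingHomProperty.appLE @Smooth π hπ ⟨Y₀, hY₀⟩ ⟨_, hO₀.basicOpen b⟩ hbO, ?_, ?_, ?_, ?_⟩
  · exact (ConcreteCategory.bijective_of_isIso (V.ι.appIso _).inv).2.comp hsurj
  · rw [← CommRingCat.hom_comp]
    congr 1
    rw [← Category.assoc, Scheme.Hom.app_eq_appLE, Scheme.Hom.appLE_comp_appLE,
      OmegaSh.appLE_congr_hom hfac _ (fun v hv => by
        show i (V.ι v) ∈ Y₀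
        rw [← Scheme.Hom.comp_apply, ← hfac, Scheme.Hom.comp_apply]
        exact hbO hv),
      Scheme.Hom.comp_appLE, Category.assoc, Scheme.Hom.appLE_appIso_inv]
    rfl
  · letI : Algebra Γ(P, O₀) Γ(P, P.basicOpen b) := (P.presheaf.map (homOfLE (P.basicOpen_le b)).op).hom.toAlgebra
    haveI : IsLocalization.Away b Γ(P, P.basicOpen b) := hO₀.isLocalization_basicOpen b
    exact RelDivLib.isH1Regular_map (Submonoid.powers b) (RegKindLib.isH1Regular_of_isKoszulRegularSeq hrs)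
  · rw [CommRingCat.hom_comp, RingHom.ker_comp_of_injective _
      (ConcreteCategory.bijective_of_isIso (V.ι.appIso _).inv).1, hk',
      show RingHom.ker (k.app O₀).hom = Ideal.ofList rs from hker]
    rw [show Ideal.ofList rs = Ideal.span (Set.range rs.get) by rw [Set.range_list_get], Ideal.map_span,
      ← Set.range_comp]
    congr 2

theorem HasFactor.basicOpen {Z Y : Scheme.{u}} {i : Z ⟶ Y} {Y₀ : Y.Opens} {W : Z.Opens} {e : W ≤ i ⁻¹ᵁ Y₀}
    (hW : IsAffineOpen W) (h : HasFactor i Y₀ W e) (b : Γ(Z, W)) {W' : Z.Opens} (hW' : W' = Z.basicOpen b) :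
    HasFactor i Y₀ W' ((hW'.trans_le (Z.basicOpen_le b)).trans e) := by
  subst hW'
  obtain ⟨B, _, φ, q, n, f, hφ, hq, hqφ, hf, hker⟩ := h
  obtain ⟨a, ha⟩ := hq b
  let res : Γ(Z, W) →+* Γ(Z, Z.basicOpen b) := (Z.presheaf.map (homOfLE (Z.basicOpen_le b)).op).hom
  letI : Algebra Γ(Z, W) Γ(Z, Z.basicOpen b) := res.toAlgebra
  haveI : IsLocalization.Away b Γ(Z, Z.basicOpen b) := hW.isLocalization_basicOpen b
  have hu : IsUnit ((res.comp q) a) := by
    show IsUnit (algebraMap Γ(Z, W) Γ(Z, Z.basicOpen b) (q a))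
    rw [ha]
    exact IsLocalization.Away.algebraMap_isUnit b
  let L := Localization.Away a
  let q' : L →+* Γ(Z, Z.basicOpen b) := IsLocalization.Away.lift a hu
  have hq' : ∀ x, q' (algebraMap B L x) = res (q x) := fun x => IsLocalization.Away.lift_eq a hu x
  refine ⟨L, inferInstance, (algebraMap B L).comp φ, q', n, fun l => algebraMap B L (f l),
    RingHom.Smooth.comp hφ (RingHom.Smooth.holdsForLocalizationAway _ a), ?_, ?_,
    RelDivLib.isH1Regular_map (Submonoid.powers a) hf, ?_⟩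
  · intro c
    obtain ⟨N, x, hx⟩ := IsLocalization.Away.surj b c
    obtain ⟨y, rfl⟩ := hq x
    refine ⟨IsLocalization.mk' L y (⟨a ^ N, pow_mem (Submonoid.mem_powers a) N⟩ : Submonoid.powers a), ?_⟩
    have h2 : q' (IsLocalization.mk' L y (⟨a ^ N, pow_mem (Submonoid.mem_powers a) N⟩ : Submonoid.powers a)) * q' (algebraMap B L (a ^ N)) = q' (algebraMap B L y) := by
      rw [← map_mul, IsLocalization.mk'_spec]
    rw [hq', hq', map_pow, map_pow, ha] at h2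
    refine ((IsLocalization.Away.algebraMap_isUnit (S := Γ(Z, Z.basicOpen b)) b).pow N).mul_right_cancel ?_
    exact h2.trans hx.symm
  · ext r
    rw [RingHom.comp_apply, RingHom.comp_apply, hq', ← RingHom.comp_apply q φ, hqφ]
    exact congr($(Scheme.Hom.appLE_map i e (homOfLE (Z.basicOpen_le b)).op) r)
  · have hspan : Ideal.span (Set.range fun l => algebraMap B L (f l)) = (RingHom.ker q).map (algebraMap B L) := by
      rw [hker, Ideal.map_span, ← Set.range_comp]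
      rfl
    rw [hspan]
    refine le_antisymm (fun x hx => ?_) (Ideal.map_le_iff_le_comap.2 fun y hy => ?_)
    · obtain ⟨y, s, rfl⟩ := IsLocalization.exists_mk'_eq (Submonoid.powers a) x
      obtain ⟨_, N, rfl⟩ := s
      have h0 : q' (algebraMap B L y) = 0 := by
        rw [← IsLocalization.mk'_spec L y (⟨a ^ N, pow_mem (Submonoid.mem_powers a) N⟩ : Submonoid.powers a), map_mul, RingHom.mem_ker.1 hx, zero_mul]
      rw [hq'] at h0
      obtain ⟨⟨_, M, rfl⟩, hM⟩ := (IsLocalization.map_eq_zero_iff (Submonoid.powers b) Γ(Z, Z.basicOpen b) (q y)).1 h0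
      rw [IsLocalization.mk'_mem_map_algebraMap_iff]
      refine ⟨a ^ M, ⟨M, rfl⟩, ?_⟩
      rw [RingHom.mem_ker, map_mul, map_pow, ha]
      exact hM
    · show q' (algebraMap B L y) = 0
      rw [hq', RingHom.mem_ker.1 hy, map_zero]

section core

variable {Z Y X Z' Y' : Scheme.{u}} {i : Z ⟶ Y} {b : Y ⟶ X} {i' : Z ⟶ Z'} {c : Z' ⟶ X}
  {j : Y ⟶ Y'} {d : Y' ⟶ X} {m : Z' ⟶ Y'}
  {ψ : (Scheme.Modules.pullback i).obj (Omega.conormal j) ⟶ Omega.conormal i'}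

theorem injective_of_factor (hZ' : OmegaSh.IsUnivThickening (i ≫ b) i' c) (hY' : OmegaSh.IsUnivThickening b j d)
    (hm₁ : i' ≫ m = i ≫ j) (hm₂ : m ≫ d = c) (hψ : OmegaSh.IsConormalMap i' j m i ψ)
    {X₀ : X.Opens} (hX₀ : IsAffineOpen X₀) {Y₀' : Y'.Opens} (hY₀' : IsAffineOpen Y₀') (hdX : Y₀' ≤ d ⁻¹ᵁ X₀)
    (hY₀ : IsAffineOpen (j ⁻¹ᵁ Y₀')) (hsj : Function.Surjective (j.app Y₀'))
    {U : Z'.Opens} (hU : IsAffineOpen U) (hW : IsAffineOpen (i' ⁻¹ᵁ U)) (hsi : Function.Surjective (i'.app U))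
    (hmU : U ≤ m ⁻¹ᵁ Y₀') (hcU : U ≤ c ⁻¹ᵁ X₀) (e : i' ⁻¹ᵁ U ≤ i ⁻¹ᵁ (j ⁻¹ᵁ Y₀'))
    (hfac : HasFactor i (j ⁻¹ᵁ Y₀') (i' ⁻¹ᵁ U) e)
    (v : Γ((Scheme.Modules.pullback i).obj (Omega.conormal j), i' ⁻¹ᵁ U)) (hv : ψ.app (i' ⁻¹ᵁ U) v = 0) : v = 0 := by
  classical
  haveI : IsClosedImmersion j := hY'.1.1.1
  haveI : IsClosedImmersion i' := hZ'.1.1.1
  haveI := OmegaAffLib.isQCoh_idealMod j.ker
  haveI : Coh.IsQCoh (Omega.conormal j) := PullbackMod.isQCoh_pullback j (ClSub.idealMod j.ker)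
  obtain ⟨B, _, φ, q, n, f, hφ, hq, hqφ, hf, hker⟩ := hfac
  -- the base rings
  let I : Ideal Γ(Y', Y₀') := RingHom.ker (j.app Y₀').hom
  let eR := RingHom.quotientKerEquivOfSurjective (f := (j.app Y₀').hom) hsj
  letI : Algebra (Γ(Y', Y₀') ⧸ I) B := (φ.comp eR.toRingHom).toAlgebra
  letI : Algebra Γ(Y', Y₀') B := (φ.comp (j.app Y₀').hom).toAlgebra
  haveI : IsScalarTower Γ(Y', Y₀') (Γ(Y', Y₀') ⧸ I) B := .of_algebraMap_eq' rfl
  haveI : Algebra.Smooth (Γ(Y', Y₀') ⧸ I) B :=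
    RingHom.smooth_algebraMap.1 (RingHom.Smooth.comp (RingHom.Smooth.of_bijective eR.bijective) hφ)
  obtain ⟨B', _, _, _, π, hπ, hπker⟩ := SmLift.exists_smooth_lift (A := Γ(Y', Y₀')) (I := I) (C := B)
  let θ : B' →+* Γ(Z, i' ⁻¹ᵁ U) := q.comp π.toRingHom
  have hθ : Function.Surjective θ := hq.comp hπ
  have hA : ∀ x : Γ(Y', Y₀'), θ (algebraMap Γ(Y', Y₀') B' x) = i.appLE (j ⁻¹ᵁ Y₀') (i' ⁻¹ᵁ U) e (j.app Y₀' x) := fun x => by
    show q (π (algebraMap _ _ x)) = _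
    rw [π.commutes, RingHom.algebraMap_toAlgebra, RingHom.comp_apply, ← RingHom.comp_apply q φ, hqφ]
  have hA' : ∀ x : Γ(Y', Y₀'), θ (algebraMap Γ(Y', Y₀') B' x) = i'.app U (m.appLE Y₀' U hmU x) := fun x => by
    rw [hA, ← CommRingCat.comp_apply, ← CommRingCat.comp_apply]
    congr 1
    simp only [Scheme.Hom.app_eq_appLE, Scheme.Hom.appLE_comp_appLE]
    exact congrArg ConcreteCategory.hom (OmegaSh.appLE_congr_hom hm₁.symm _ _)
  -- the first order neighbourhood in the lifted smooth algebra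
  let K : Ideal B' := RingHom.ker θ
  let Kb : Ideal (B' ⧸ K ^ 2) := K.map (Ideal.Quotient.mk (K ^ 2))
  have hKb : Kb ^ 2 = ⊥ := by rw [← Ideal.map_pow, Ideal.map_quotient_self]
  let β : Γ(Z, i' ⁻¹ᵁ U) →+* (B' ⧸ K ^ 2) ⧸ Kb :=
    θ.liftOfSurjective hθ ⟨(Ideal.Quotient.mk Kb).comp (Ideal.Quotient.mk (K ^ 2)), fun x hx => by
      rw [RingHom.mem_ker, RingHom.comp_apply, Ideal.Quotient.eq_zero_iff_mem]
      exact Ideal.mem_map_of_mem _ hx⟩
  have hβ : ∀ x, β (θ x) = Ideal.Quotient.mk Kb (Ideal.Quotient.mk (K ^ 2) x) := fun x =>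
    RingHom.liftOfRightInverse_comp_apply _ _ _ _ _
  let γ : Γ(X, X₀) →+* B' ⧸ K ^ 2 :=
    ((Ideal.Quotient.mk (K ^ 2)).comp (algebraMap Γ(Y', Y₀') B')).comp (d.appLE X₀ Y₀' hdX).hom
  have hc₀ : ∀ r, c.appLE X₀ U hcU r = m.appLE Y₀' U hmU (d.appLE X₀ Y₀' hdX r) := fun r => by
    rw [← CommRingCat.comp_apply, Scheme.Hom.appLE_comp_appLE]
    exact congr($(OmegaSh.appLE_congr_hom hm₂.symm hcU _) r)
  obtain ⟨g, ⟨hg₁, hg₂⟩, -⟩ := existsUnique_ringHom hZ' hX₀ hU hcU hW Kb hKb β γ (fun r => by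
    rw [hc₀, ← hA', hβ]; rfl)
  have hgm : ∀ x : Γ(Y', Y₀'), g (m.appLE Y₀' U hmU x) = Ideal.Quotient.mk (K ^ 2) (algebraMap Γ(Y', Y₀') B' x) := by
    obtain ⟨φ₀, -, huniq⟩ := existsUnique_ringHom hY' hX₀ hY₀' hdX hY₀ Kb hKb
      (β.comp (i.appLE (j ⁻¹ᵁ Y₀') (i' ⁻¹ᵁ U) e).hom) γ (fun r => by
        rw [RingHom.comp_apply, ← hA, hβ]; rfl)
    intro x
    have e1 := huniq (g.comp (m.appLE Y₀' U hmU).hom) ⟨fun r => by
        rw [RingHom.comp_apply, ← hc₀]; exact hg₁ r, fun a => by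
        rw [RingHom.comp_apply, RingHom.comp_apply, hg₂, ← hA', ← hA]⟩
    have e2 := huniq ((Ideal.Quotient.mk (K ^ 2)).comp (algebraMap Γ(Y', Y₀') B')) ⟨fun r => rfl, fun a => by
        rw [RingHom.comp_apply, RingHom.comp_apply, ← hA, hβ]⟩
    exact congr($(e1.trans e2.symm) x)
  -- the source as a quotient of `B' ⊗ I`
  let M := Γ((Scheme.Modules.pullback i).obj (Omega.conormal j), i' ⁻¹ᵁ U)
  letI : Module B' M := Module.compHom M θ
  letI : Module Γ(Y', Y₀') M := Module.compHom M (θ.comp (algebraMap Γ(Y', Y₀') B'))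
  haveI : IsScalarTower Γ(Y', Y₀') B' M := .of_algebraMap_smul fun _ _ => rfl
  let gen : Γ(ClSub.idealMod j.ker, Y₀') → M := fun s =>
    PullbackMod.pullMap i (Omega.conormal j) (W := j ⁻¹ᵁ Y₀') (W' := i' ⁻¹ᵁ U) e
      (PullbackMod.pullMap j (ClSub.idealMod j.ker) (W := Y₀') (W' := j ⁻¹ᵁ Y₀') le_rfl s)
  have hgen_add : ∀ s t, gen (s + t) = gen s + gen t := fun s t => by simp only [gen, map_add]
  have hgen_smul : ∀ (r : Γ(Y', Y₀')) s, gen (r • s) = θ (algebraMap Γ(Y', Y₀') B' r) • gen s := fun r s => by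
    show PullbackMod.pullMap i _ e (PullbackMod.pullMap j _ le_rfl (r • s)) = _
    rw [PullbackMod.pullMap_smul]
    refine (PullbackMod.pullMap_smul i (Omega.conormal j) e _ _).trans ?_
    rw [hA, Scheme.Hom.app_eq_appLE]
  choose sec hsec using fun x : I => exists_idealSect_eq j Y₀' x.1 x.2
  let c₁ : I →ₗ[Γ(Y', Y₀')] M :=
    { toFun := fun x => gen (sec x)
      map_add' := fun x y => by
        rw [← hgen_add]
        congr 1
        exact OmegaAffLib.idealSect_injective j.ker Y₀' (by rw [map_add, hsec, hsec, hsec]; rfl)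
      map_smul' := fun r x => by
        show gen _ = θ (algebraMap Γ(Y', Y₀') B' r) • gen (sec x)
        rw [← hgen_smul]
        congr 1
        exact OmegaAffLib.idealSect_injective j.ker Y₀' (by rw [OmegaAffLib.idealSect_smul, hsec, hsec]; rfl) }
  let Φ : B' ⊗[Γ(Y', Y₀')] I →ₗ[B'] M := c₁.liftBaseChange B'
  have hΦ : ∀ (b : B') (x : I), Φ (b ⊗ₜ x) = θ b • gen (sec x) := fun b x => by
    simp [Φ, c₁]; rfl
  have hΦsurj : ∀ w : M, ∃ t, Φ t = w := by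
    letI : Algebra Γ(Y, j ⁻¹ᵁ Y₀') Γ(Z, i' ⁻¹ᵁ U) := (i.appLE (j ⁻¹ᵁ Y₀') (i' ⁻¹ᵁ U) e).hom.toAlgebra
    letI : Module Γ(Y, j ⁻¹ᵁ Y₀') M := Module.compHom M (i.appLE (j ⁻¹ᵁ Y₀') (i' ⁻¹ᵁ U) e).hom
    haveI : IsScalarTower Γ(Y, j ⁻¹ᵁ Y₀') Γ(Z, i' ⁻¹ᵁ U) M := .of_algebraMap_smul fun _ _ => rfl
    have hbc := PullbackMod.isBaseChange_pullMapL i (Omega.conormal j) hY₀ hW e
    intro w
    induction w using hbc.inductionOn with
    | zero => exact ⟨0, map_zero _⟩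
    | tmul x =>
      obtain ⟨s, rfl⟩ := (cls_surjective_and_eq_zero_iff j hY₀' hY₀ hsj).1 x
      refine ⟨1 ⊗ₜ (⟨OmegaSh.idealSect j.ker Y₀' s, app_idealSect j Y₀' s⟩ : I), ?_⟩
      rw [hΦ, map_one, one_smul]
      exact congrArg gen (OmegaAffLib.idealSect_injective j.ker Y₀' (hsec _))
    | smul r w ih =>
      obtain ⟨t, rfl⟩ := ih
      obtain ⟨r, rfl⟩ := hθ r
      exact ⟨r • t, map_smul _ _ _⟩
    | add w w' ih ih' =>
      obtain ⟨t, rfl⟩ := ih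
      obtain ⟨t', rfl⟩ := ih'
      exact ⟨t + t', map_add _ _ _⟩
  -- sections of the target as square zero functions
  let cls : Γ(ClSub.idealMod i'.ker, U) →+ Γ(Omega.conormal i', i' ⁻¹ᵁ U) :=
    AddMonoidHom.mk' (fun s => PullbackMod.pullMap i' (ClSub.idealMod i'.ker) (W := U) (W' := i' ⁻¹ᵁ U) le_rfl s)
      (fun s t => map_add _ s t)
  obtain ⟨hcls₁, hcls₂⟩ := cls_surjective_and_eq_zero_iff i' hU hW hsi
  have hcls : Function.Bijective cls := by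
    refine ⟨(injective_iff_map_eq_zero _).mpr fun s hs => ?_, hcls₁⟩
    have h := (hcls₂ s).mp hs
    have h0 : RingHom.ker (i'.app U).hom * RingHom.ker (i'.app U).hom = ⊥ :=
      eq_bot_iff.mpr (Submodule.mul_le.mpr fun p hp r hr => (Submodule.mem_bot _).mpr (mul_eq_zero_of_thickening hZ'.1 hp hr))
    rw [h0, Ideal.mem_bot] at h
    exact OmegaAffLib.idealSect_injective i'.ker U (h.trans (map_zero _).symm)
  let G : Γ(Omega.conormal i', i' ⁻¹ᵁ U) →+ B' ⧸ K ^ 2 :=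
    AddMonoidHom.mk' (fun w => g (OmegaSh.idealSect i'.ker U ((AddEquiv.ofBijective cls hcls).symm w)))
      (fun w w' => by simp only [map_add])
  have hG : ∀ s, G (cls s) = g (OmegaSh.idealSect i'.ker U s) := fun s => by
    show g (OmegaSh.idealSect i'.ker U ((AddEquiv.ofBijective cls hcls).symm (AddEquiv.ofBijective cls hcls s))) = _
    rw [AddEquiv.symm_apply_apply]
  let μ : B' ⊗[Γ(Y', Y₀')] I →ₗ[B'] B' := ((Algebra.linearMap Γ(Y', Y₀') B').comp I.subtype).liftBaseChange B'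
  have hμ : ∀ (b : B') (x : I), μ (b ⊗ₜ x) = b * algebraMap Γ(Y', Y₀') B' x.1 := fun b x => by
    simp [μ]
  have key : ∀ t, G (ψ.app (i' ⁻¹ᵁ U) (Φ t)) = Ideal.Quotient.mk (K ^ 2) (μ t) := by
    intro t
    induction t using TensorProduct.induction_on with
    | zero => simp
    | add t t' ht ht' =>
      rw [map_add Φ, map_add μ, map_add (Ideal.Quotient.mk (K ^ 2)), ← ht, ← ht']
      exact (congrArg G (map_add (ψ.app (i' ⁻¹ᵁ U)).hom (Φ t) (Φ t'))).trans (map_add G _ _)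
    | tmul b x =>
      obtain ⟨s, hs⟩ := exists_idealSect_eq i' U (m.appLE Y₀' U hmU x.1) (by
        rw [← hA', hA, show j.app Y₀' x.1 = 0 from x.2, map_zero])
      obtain ⟨cb, hcb⟩ := hsi (θ b)
      have h1 : ψ.app (i' ⁻¹ᵁ U) (gen (sec x)) = cls s :=
        conormalMap_apply i' j m i hψ (U' := Y₀') (U := U) (W' := j ⁻¹ᵁ Y₀') (W := i' ⁻¹ᵁ U) hmU le_rfl e le_rfl
          (sec x) s (by rw [hs, hsec])
      have h2 : θ b • cls s = cls (cb • s) := by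
        refine Eq.trans ?_ (PullbackMod.pullMap_smul i' (ClSub.idealMod i'.ker) le_rfl cb s).symm
        rw [← Scheme.Hom.app_eq_appLE, hcb]
        rfl
      rw [hΦ, Scheme.Modules.Hom.app_smul, h1, h2, hG, OmegaAffLib.idealSect_smul, hs, map_mul, hgm, hμ, map_mul]
      refine sub_eq_zero.1 ((Submodule.mem_bot _).1 (hKb.le ?_))
      rw [← sub_mul, pow_two Kb]
      refine Ideal.mul_mem_mul ?_ (Ideal.mem_map_of_mem _ ?_)
      · rw [← Ideal.Quotient.eq_zero_iff_mem, map_sub, hg₂, hcb, hβ, sub_self]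
      · show θ _ = 0
        rw [hA, show j.app Y₀' x.1 = 0 from x.2, map_zero]
  have hμinj : Function.Injective μ := by
    have e1 : (μ.restrictScalars Γ(Y', Y₀')) =
        (TensorProduct.rid Γ(Y', Y₀') B').toLinearMap ∘ₗ I.subtype.lTensor B' := by
      refine TensorProduct.ext' fun b x => ?_
      simp [hμ, Algebra.smul_def, mul_comm]
    have := (TensorProduct.rid Γ(Y', Y₀') B').injective.comp
      (Module.Flat.lTensor_preserves_injective_linearMap (M := B') I.subtype I.injective_subtype)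
    exact fun s t h => this (by
      show ((TensorProduct.rid Γ(Y', Y₀') B').toLinearMap ∘ₗ I.subtype.lTensor B') s =
        ((TensorProduct.rid Γ(Y', Y₀') B').toLinearMap ∘ₗ I.subtype.lTensor B') t
      rw [← e1]
      exact h)
  -- conclusion
  obtain ⟨t, rfl⟩ := hΦsurj v
  have h0 : μ t ∈ K * K := by
    rw [← pow_two, ← Ideal.Quotient.eq_zero_iff_mem, ← key, hv, map_zero]
  have hμI : ∀ s, μ s ∈ RingHom.ker π.toRingHom := by
    intro s
    induction s using TensorProduct.induction_on with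
    | zero => simp
    | add s s' h h' => rw [map_add]; exact add_mem h h'
    | tmul b x =>
      rw [hμ, hπker]
      exact Ideal.mul_mem_left _ _ (Ideal.mem_map_of_mem _ x.2)
  have hK : K = (Ideal.span (Set.range f)).comap π.toRingHom := by
    rw [← hker, RingHom.comap_ker]
  have h1 : μ t ∈ K * RingHom.ker π.toRingHom := by
    rw [hK] at h0 ⊢
    exact mem_mul_of_h1 π.toRingHom hπ hf (hμI t) h0
  have hrange : RingHom.ker π.toRingHom ≤ LinearMap.range μ := by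
    rw [hπker, Ideal.map_le_iff_le_comap]
    exact fun x hx => ⟨1 ⊗ₜ (⟨x, hx⟩ : I), by rw [hμ, one_mul]⟩
  have h2 : μ t ∈ Submodule.map μ (K • ⊤ : Submodule B' (B' ⊗[Γ(Y', Y₀')] I)) := by
    rw [Submodule.map_smul'', Submodule.map_top]
    exact Submodule.smul_mono le_rfl hrange (by rwa [Ideal.smul_eq_mul])
  obtain ⟨t', ht', he⟩ := h2
  rw [← hμinj he]
  refine Submodule.smul_induction_on ht' (fun k hk w _ => ?_) (fun w w' hw hw' => by rw [map_add, hw, hw', add_zero])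
  rw [map_smul]
  show θ k • Φ w = 0
  rw [RingHom.mem_ker.1 hk, zero_smul]

theorem mono_of_lci (hZ' : OmegaSh.IsUnivThickening (i ≫ b) i' c) (hY' : OmegaSh.IsUnivThickening b j d)
    (hm₁ : i' ≫ m = i ≫ j) (hm₂ : m ≫ d = c) (hψ : OmegaSh.IsConormalMap i' j m i ψ)
    (hlci : ∀ z : Z, Synt.IsKoszulAt i z) : Mono ψ := by
  haveI : IsClosedImmersion j := hY'.1.1.1
  haveI : IsClosedImmersion i' := hZ'.1.1.1
  refine mono_of_local ψ fun z V hz v hv => ?_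
  obtain ⟨X₀, hX₀, hzX, -⟩ := exists_isAffineOpen_mem_and_subset (U := (⊤ : X.Opens)) (x := b (i z)) trivial
  have hdz : d (j (i z)) ∈ X₀ := by
    rw [← Scheme.Hom.comp_apply, hY'.2.1]; exact hzX
  obtain ⟨Y₀', hY₀', hzY, hYle⟩ := exists_isAffineOpen_mem_and_subset (U := d ⁻¹ᵁ X₀) (x := j (i z)) hdz
  obtain ⟨hY₀, hsj⟩ := chart_of_le j hY₀' (le_coborderRange j _)
  obtain ⟨U₁, hU₁, hzU₁, hU₁le, hW₁le, hb₁⟩ := exists_chart i' z (V := V ⊓ i ⁻¹ᵁ (j ⁻¹ᵁ Y₀')) ⟨hz, hzY⟩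
    (O := m ⁻¹ᵁ Y₀' ⊓ c ⁻¹ᵁ X₀) (by
      refine ⟨?_, ?_⟩
      · show m (i' z) ∈ Y₀'
        rw [← Scheme.Hom.comp_apply, hm₁]; exact hzY
      · show c (i' z) ∈ X₀
        rw [← Scheme.Hom.comp_apply, hZ'.2.1]; exact hzX)
  obtain ⟨hW₁, hs₁⟩ := chart_of_le i' hU₁ hb₁
  obtain ⟨W₂, e₂, hW₂, hzW₂, hfac⟩ := exists_factor i (hlci z) hY₀ hzY
  obtain ⟨β₁, β₂, hβ, hzβ⟩ := exists_basicOpen_le_affine_inter hW₁ hW₂ z ⟨hzU₁, hzW₂⟩
  obtain ⟨a, ha⟩ := hs₁ β₁
  have hpre : i' ⁻¹ᵁ Z'.basicOpen a = Z.basicOpen β₁ := by rw [Scheme.preimage_basicOpen, ha]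
  have hUle : Z'.basicOpen a ≤ U₁ := Z'.basicOpen_le a
  obtain ⟨hW, hsi⟩ := chart_of_le i' (hU₁.basicOpen a) (hUle.trans hb₁)
  have hWV : i' ⁻¹ᵁ Z'.basicOpen a ≤ V := fun y hy => (hW₁le (hUle hy)).1
  refine ⟨i' ⁻¹ᵁ Z'.basicOpen a, hWV, by rw [hpre]; exact hzβ, ?_⟩
  exact injective_of_factor hZ' hY' hm₁ hm₂ hψ hX₀ hY₀' hYle hY₀ hsj (hU₁.basicOpen a) hW hsi
    (fun y hy => (hU₁le (hUle hy)).1) (fun y hy => (hU₁le (hUle hy)).2) _
    (HasFactor.basicOpen hW₂ hfac β₂ (hpre.trans hβ)) _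
    (by rw [OmegaUnivLib.hom_natural, hv, map_zero])

end core

end Groth.Agent.ConormalLciLib
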